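import Groth.Agent.SteinLib.Conn
import Groth.Agent.SteinLib.App
import Mathlib.AlgebraicGeometry.Morphisms.UniversallyInjective
import Mathlib.AlgebraicGeometry.Morphisms.Integral
import Mathlib.RingTheory.Spectrum.Prime.Topology

/-!
# Global functions that are purely inseparable over the base, and base change
-/

set_option autoImplicit false
set_option linter.style.haveILetI false
set_option backward.isDefEq.respectTransparency false
set_option backward.isDefEq.respectTransparency.types false

universe u

open CategoryTheory CategoryTheory.Limits AlgebraicGeometry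

namespace SteinUILib

/-- A zero dimensional ring with connected spectrum has only one prime. -/
theorem subsingleton_of_preconnected {C : Type u} [CommRing C] [PreconnectedSpace (PrimeSpectrum C)]
    (hmax : ∀ p : Ideal C, p.IsPrime → p.IsMaximal) : Subsingleton (PrimeSpectrum C) := by
  refine ⟨fun p q => by_contra fun hne => ?_⟩
  have h : ¬ p.asIdeal ≤ q.asIdeal := fun h => hne (PrimeSpectrum.ext
    ((hmax _ p.2).eq_of_le q.2.ne_top h))
  obtain ⟨x, hxp, hxq⟩ := SetLike.not_le_iff_exists.1 h
  have hr : Set.range (PrimeSpectrum.comap (algebraMap C (Localization.Away x))) =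
      (PrimeSpectrum.basicOpen x : Set (PrimeSpectrum C)) :=
    PrimeSpectrum.localization_away_comap_range (Localization.Away x) x
  have hclosed : IsClosed (PrimeSpectrum.basicOpen x : Set (PrimeSpectrum C)) := by
    rw [← hr]
    refine PrimeSpectrum.isClosed_range_of_stableUnderSpecialization _ fun a b hab ha => ?_
    have hle : a.asIdeal ≤ b.asIdeal := (PrimeSpectrum.le_iff_specializes a b).2 hab
    rwa [show b = a from (PrimeSpectrum.ext ((hmax _ a.2).eq_of_le b.2.ne_top hle)).symm]
  have hu := IsClopen.eq_univ ⟨hclosed, (PrimeSpectrum.basicOpen x).2⟩ ⟨q, hxq⟩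
  exact (show p ∈ (PrimeSpectrum.basicOpen x : Set (PrimeSpectrum C)) by rw [hu]; trivial) hxp

/-- Two sections of an integral morphism to a field with preconnected source are equal. -/
theorem eq_of_sections {W : Scheme.{u}} [IsAffine W] [PreconnectedSpace W] {K : Type u} [Field K]
    (p : W ⟶ Spec (CommRingCat.of K)) [IsIntegralHom p] (s₁ s₂ : Spec (CommRingCat.of K) ⟶ W)
    (h₁ : s₁ ≫ p = 𝟙 _) (h₂ : s₂ ≫ p = 𝟙 _) : s₁ = s₂ := by
  apply ext_of_isAffine
  let C : Type u := Γ(W, ⊤)
  let K' : Type u := Γ(Spec (CommRingCat.of K), ⊤)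
  let eK : K' ≃+* K := (Scheme.ΓSpecIso (CommRingCat.of K)).commRingCatIsoToRingEquiv
  have hK' : IsField K' := MulEquiv.isField (Field.toIsField K) eK.toMulEquiv
  letI : Field K' := hK'.toField
  letI : Algebra K' C := p.appTop.hom.toAlgebra
  haveI : Algebra.IsIntegral K' C :=
    ⟨IsIntegralHom.isIntegral_app p ⊤ (isAffineOpen_top _)⟩
  have hmax : ∀ q : Ideal C, q.IsPrime → q.IsMaximal := fun q hq => by
    haveI := hq
    haveI : (q.comap (algebraMap K' C)).IsPrime := Ideal.comap_isPrime _ _
    exact Ideal.isMaximal_of_isIntegral_of_isMaximal_comap (R := K') q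
      (by rw [Ideal.eq_bot_of_prime (q.comap (algebraMap K' C))]; exact Ideal.bot_isMaximal)
  haveI : PreconnectedSpace (PrimeSpectrum C) :=
    W.isoSpec.hom.surjective.denseRange.preconnectedSpace W.isoSpec.hom.continuous
  have hs := subsingleton_of_preconnected hmax
  have hφ : ∀ (s : Spec (CommRingCat.of K) ⟶ W), s ≫ p = 𝟙 _ → ∀ c : K',
      s.appTop.hom (algebraMap K' C c) = c := fun s hs' c => by
    have h := congrArg (fun z : Spec (CommRingCat.of K) ⟶ Spec (CommRingCat.of K) => z.appTop.hom c) hs'
    simp only [Scheme.Hom.comp_appTop, Scheme.Hom.id_appTop] at h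
    exact h
  have hker : ∀ (s : Spec (CommRingCat.of K) ⟶ W), (RingHom.ker s.appTop.hom).IsPrime := fun s => by
    haveI : IsDomain K' := inferInstance
    exact RingHom.ker_isPrime _
  have heq : RingHom.ker s₁.appTop.hom = RingHom.ker s₂.appTop.hom :=
    congrArg PrimeSpectrum.asIdeal (hs.elim ⟨_, hker s₁⟩ ⟨_, hker s₂⟩)
  ext x
  have hx : (x : C) - algebraMap K' C (s₁.appTop.hom x) ∈ RingHom.ker s₁.appTop.hom := by
    rw [RingHom.mem_ker, map_sub, hφ s₁ h₁, sub_self]
  rw [heq, RingHom.mem_ker, map_sub, hφ s₂ h₂, sub_eq_zero] at hx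
  exact hx.symm

/-- A proper morphism whose functions are purely inseparable over the affine base has geometrically
preconnected fibres. -/
theorem preconnected_bc {X : Scheme.{u}} [CompactSpace X] [QuasiSeparatedSpace X] {R : CommRingCat.{u}}
    (h : Spec Γ(X, ⊤) ⟶ Spec R) [UniversallyInjective h] [IsProper (X.toSpecΓ ≫ h)]
    (K : Type u) [Field K] (t : Spec (CommRingCat.of K) ⟶ Spec R) :
    PreconnectedSpace ↥(pullback (X.toSpecΓ ≫ h) t) := by
  haveI : IsProper X.toSpecΓ := IsProper.of_comp X.toSpecΓ h
  have hiso : IsIso (X.toSpecΓ.app ⊤) := by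
    show IsIso X.toSpecΓ.appTop
    rw [Scheme.toSpecΓ_appTop]
    infer_instance
  haveI : GeometricallyConnected X.toSpecΓ := SteinLib.geometricallyConnected_of_isIso_app _ fun U _ =>
    SteinLib.isIso_app_of_cover X.toSpecΓ (fun _ : PUnit.{u + 1} => ⊤) (fun _ => isAffineOpen_top _)
      (fun _ => ⟨PUnit.unit, trivial⟩) (fun _ => hiso) U
  let Hk := pullback h t
  let P := pullback X.toSpecΓ (pullback.fst h t)
  haveI : UniversallyInjective (pullback.snd h t) :=
    MorphismProperty.pullback_snd (P := @UniversallyInjective) h t inferInstance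
  haveI : Subsingleton Hk := ⟨fun a b => (pullback.snd h t).injective (Subsingleton.elim _ _)⟩
  haveI : PreconnectedSpace P := by
    rcases isEmpty_or_nonempty Hk with hH | ⟨⟨w⟩⟩
    · haveI : IsEmpty P := ⟨fun x => hH.false ((pullback.snd X.toSpecΓ (pullback.fst h t)).base x)⟩
      exact ⟨Set.subsingleton_of_subsingleton.isPreconnected⟩
    · have hc := (pullback.snd X.toSpecΓ (pullback.fst h t)).isConnected_preimage_singleton w
      refine ⟨?_⟩
      have huniv : (pullback.snd X.toSpecΓ (pullback.fst h t)).base ⁻¹' {w} = Set.univ :=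
        Set.eq_univ_of_forall fun x => Subsingleton.elim _ w
      exact huniv ▸ hc.isPreconnected
  let e : P ≅ pullback (X.toSpecΓ ≫ h) t :=
    ((IsPullback.of_hasPullback X.toSpecΓ (pullback.fst h t)).flip.paste_horiz
      (IsPullback.of_hasPullback h t).flip).flip.isoPullback
  exact e.hom.surjective.denseRange.preconnectedSpace e.hom.continuous

/-- Pure inseparability of global functions is stable under base change of a proper morphism. -/
theorem universallyInjective_bc {X Y S T : Scheme.{u}} [IsAffine S] [IsAffine T] (f : X ⟶ S) [IsProper f]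
    (m : T ⟶ S) (g : Y ⟶ T) (a : Y ⟶ X) (hsq : IsPullback a g f m)
    (hf : UniversallyInjective (Spec.map f.appTop)) : UniversallyInjective (Spec.map g.appTop) := by
  haveI : IsProper g := MorphismProperty.of_isPullback (P := @IsProper) hsq inferInstance
  haveI : CompactSpace X := QuasiCompact.compactSpace_of_compactSpace f
  haveI : QuasiSeparatedSpace X := quasiSeparatedSpace_of_quasiSeparated f
  haveI : CompactSpace Y := QuasiCompact.compactSpace_of_compactSpace g
  haveI : QuasiSeparatedSpace Y := quasiSeparatedSpace_of_quasiSeparated g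
  have hsq' : IsPullback a (g ≫ T.toSpecΓ) (f ≫ S.toSpecΓ) (Spec.map m.appTop) :=
    hsq.paste_vert (IsPullback.of_vert_isIso ⟨Scheme.toSpecΓ_naturality m⟩)
  rw [Scheme.toSpecΓ_naturality f, Scheme.toSpecΓ_naturality g] at hsq'
  haveI := hf
  haveI : IsProper (X.toSpecΓ ≫ Spec.map f.appTop) := by
    rw [← Scheme.toSpecΓ_naturality f]; infer_instance
  haveI : IsProper (Y.toSpecΓ ≫ Spec.map g.appTop) := by
    rw [← Scheme.toSpecΓ_naturality g]; infer_instance
  haveI : IsProper Y.toSpecΓ := IsProper.of_comp Y.toSpecΓ (Spec.map g.appTop)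
  haveI : Surjective Y.toSpecΓ := ⟨fun y => by
    have hd : Dense (Set.range Y.toSpecΓ.base) := Y.toSpecΓ.denseRange
    have hc : IsClosed (Set.range Y.toSpecΓ.base) := Y.toSpecΓ.isClosedMap.isClosed_range
    have := hd.closure_eq
    rw [hc.closure_eq] at this
    exact (Set.eq_univ_iff_forall.1 this) y⟩
  haveI : IsIntegralHom (Spec.map g.appTop) :=
    IsIntegralHom.SpecMap_iff.2 (SteinLib.isIntegral_app g (isAffineOpen_top T))
  refine ((tfae_universallyInjective _).out 1 0).1 fun K instK g₁ g₂ hg => ?_
  letI := instK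
  dsimp only at hg
  let t := g₁ ≫ Spec.map g.appTop
  let W := pullback (Spec.map g.appTop) t
  haveI : IsIntegralHom (pullback.snd (Spec.map g.appTop) t) :=
    MorphismProperty.pullback_snd (P := @IsIntegralHom) _ t inferInstance
  haveI : IsAffine W := isAffine_of_isAffineHom (pullback.snd (Spec.map g.appTop) t)
  haveI : PreconnectedSpace W := by
    haveI := preconnected_bc (Spec.map f.appTop) K (t ≫ Spec.map m.appTop)
    let e : pullback (Y.toSpecΓ ≫ Spec.map g.appTop) t ≅
        pullback (X.toSpecΓ ≫ Spec.map f.appTop) (t ≫ Spec.map m.appTop) :=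
      ((IsPullback.of_hasPullback (Y.toSpecΓ ≫ Spec.map g.appTop) t).paste_horiz hsq').isoPullback
    haveI : PreconnectedSpace ↥(pullback (Y.toSpecΓ ≫ Spec.map g.appTop) t) :=
      e.inv.surjective.denseRange.preconnectedSpace e.inv.continuous
    let P := pullback Y.toSpecΓ (pullback.fst (Spec.map g.appTop) t)
    let eP : P ≅ pullback (Y.toSpecΓ ≫ Spec.map g.appTop) t :=
      ((IsPullback.of_hasPullback Y.toSpecΓ (pullback.fst (Spec.map g.appTop) t)).flip.paste_horiz
        (IsPullback.of_hasPullback (Spec.map g.appTop) t).flip).flip.isoPullback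
    haveI : PreconnectedSpace P := eP.inv.surjective.denseRange.preconnectedSpace eP.inv.continuous
    haveI : Surjective (pullback.snd Y.toSpecΓ (pullback.fst (Spec.map g.appTop) t)) :=
      MorphismProperty.pullback_snd (P := @Surjective) _ _ inferInstance
    exact (pullback.snd Y.toSpecΓ (pullback.fst (Spec.map g.appTop) t)).surjective.denseRange.preconnectedSpace
      (pullback.snd Y.toSpecΓ (pullback.fst (Spec.map g.appTop) t)).continuous
  have h := eq_of_sections (pullback.snd (Spec.map g.appTop) t)
    (pullback.lift g₁ (𝟙 _) (Category.id_comp t).symm) (pullback.lift g₂ (𝟙 _) (hg.symm.trans (Category.id_comp t).symm))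
    (pullback.lift_snd _ _ _) (pullback.lift_snd _ _ _)
  simpa using congrArg (fun z => z ≫ pullback.fst (Spec.map g.appTop) t) h

end SteinUILib
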